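import Groth.Agent.Lib.ThickAff3.Affine
import Groth.Agent.Lib.FlatH4.PullChart
import Mathlib.RingTheory.Artinian.Module

/-!
A scheme over an Artinian local ring with affine closed fibre is affine.
-/

set_option autoImplicit false

universe u

open AlgebraicGeometry CategoryTheory Limits

namespace Groth.Agent.ThickAff3

/-- The kernel of a base change of a surjection of rings. -/
theorem ker_le_map_of_isPushout {A B C D : CommRingCat.{u}} {a : A ⟶ B} {b : A ⟶ C} {i : B ⟶ D} {j : C ⟶ D}
    (h : IsPushout a b i j) (hb : Function.Surjective b) :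
    RingHom.ker i.hom ≤ (RingHom.ker b.hom).map a.hom := by
  let P := (RingHom.ker b.hom).map a.hom
  let f : {f : A →+* B ⧸ P // RingHom.ker b.hom ≤ RingHom.ker f} :=
    ⟨(Ideal.Quotient.mk P).comp a.hom, fun x hx => Ideal.Quotient.eq_zero_iff_mem.2 (Ideal.mem_map_of_mem _ hx)⟩
  let q₂ : C →+* B ⧸ P := b.hom.liftOfSurjective hb f
  have hw : a ≫ CommRingCat.ofHom (Ideal.Quotient.mk P) = b ≫ CommRingCat.ofHom q₂ :=
    CommRingCat.hom_ext (RingHom.ext fun x => (RingHom.liftOfRightInverse_comp_apply b.hom _ (Function.rightInverse_surjInv hb) f x).symm)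
  intro x hx
  have h1 := congrArg (fun φ : B ⟶ CommRingCat.of (B ⧸ P) => φ.hom x)
    (h.inl_desc (CommRingCat.ofHom (Ideal.Quotient.mk P)) (CommRingCat.ofHom q₂) hw)
  simp only [CommRingCat.hom_comp, RingHom.comp_apply, show i.hom x = 0 from hx, map_zero] at h1
  exact Ideal.Quotient.eq_zero_iff_mem.1 h1.symm

/-- A scheme over an Artinian local ring is affine as soon as its base change along a quotient map is. -/
theorem isAffine_of_isPullback {A B : Type u} [CommRing A] [IsLocalRing A] [IsArtinianRing A] [CommRing B]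
    [Nontrivial B] (e : A →+* B) (he : Function.Surjective e) {X X' : Scheme.{u}} {i : X ⟶ X'}
    {f : X ⟶ Spec (CommRingCat.of B)} {g : X' ⟶ Spec (CommRingCat.of A)}
    (hsq : IsPullback i f g (Spec.map (CommRingCat.ofHom e))) [IsAffine X] : IsAffine X' := by
  obtain ⟨n, hn⟩ := IsArtinianRing.isNilpotent_jacobson_bot (R := A)
  rw [IsLocalRing.jacobson_eq_maximalIdeal ⊥ bot_ne_top] at hn
  have hker : RingHom.ker e ^ n = ⊥ :=
    eq_bot_iff.2 ((Ideal.pow_right_mono (IsLocalRing.le_maximalIdeal (RingHom.ker_ne_top e)) n).trans hn.le)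
  have : IsClosedImmersion (Spec.map (CommRingCat.ofHom e)) :=
    IsClosedImmersion.spec_of_surjective _ he
  have hsurj : Surjective (Spec.map (CommRingCat.ofHom e)) := ⟨fun p => by
    obtain ⟨q⟩ : Nonempty (PrimeSpectrum B) := inferInstance
    have : Subsingleton (PrimeSpectrum A) := ⟨fun p q => PrimeSpectrum.ext ((IsLocalRing.eq_maximalIdeal
      (IsArtinianRing.isMaximal_of_isPrime p.asIdeal)).trans (IsLocalRing.eq_maximalIdeal
      (IsArtinianRing.isMaximal_of_isPrime q.asIdeal)).symm)⟩
    exact ⟨q, this.elim (α := PrimeSpectrum A) _ _⟩⟩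
  have : IsClosedImmersion i := MorphismProperty.of_isPullback hsq.flip ‹_›
  have : Surjective i := MorphismProperty.of_isPullback hsq.flip hsurj
  refine isAffine_of_nilpotent_thickening i n fun U => ?_
  let bT := (Spec.map (CommRingCat.ofHom e)).appLE ⊤ ⊤ le_top
  have hpo := FlatH4.isPushout_sections (UY := i ⁻¹ᵁ U.1) hsq (US := ⊤) (UT := ⊤) le_top (UX := U.1) le_top
    (by simp) (isAffineOpen_top _) (isAffineOpen_top _) U.2
  have hbT : bT = (Scheme.ΓSpecIso (CommRingCat.of A)).hom ≫ CommRingCat.ofHom e ≫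
      (Scheme.ΓSpecIso (CommRingCat.of B)).inv := by
    rw [← Scheme.ΓSpecIso_naturality_assoc, Iso.hom_inv_id, Category.comp_id]
    simp [bT, Scheme.Hom.appLE, Scheme.Hom.appTop]
  have hb : Function.Surjective bT := by
    rw [hbT]
    exact ((Scheme.ΓSpecIso (CommRingCat.of B)).commRingCatIsoToRingEquiv.symm.surjective.comp
      (he.comp (Scheme.ΓSpecIso (CommRingCat.of A)).commRingCatIsoToRingEquiv.surjective))
  have hnil : RingHom.ker bT.hom ^ n = ⊥ := by
    have h1 : RingHom.ker bT.hom = (RingHom.ker e).comap (Scheme.ΓSpecIso (CommRingCat.of A)).hom.hom := by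
      ext x
      rw [hbT]
      simp only [RingHom.mem_ker, Ideal.mem_comap, CommRingCat.hom_comp, RingHom.comp_apply]
      exact map_eq_zero_iff _ (Scheme.ΓSpecIso (CommRingCat.of B)).commRingCatIsoToRingEquiv.symm.injective
    have hinj : Function.Injective (Scheme.ΓSpecIso (CommRingCat.of A)).hom.hom :=
      (Scheme.ΓSpecIso (CommRingCat.of A)).commRingCatIsoToRingEquiv.injective
    rw [← Ideal.map_eq_bot_iff_of_injective hinj, Ideal.map_pow]
    exact eq_bot_iff.2 ((Ideal.pow_right_mono (h1 ▸ Ideal.map_comap_le) n).trans hker.le)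
  have hle : RingHom.ker (i.app U.1).hom ≤ (RingHom.ker bT.hom).map (g.appLE ⊤ U.1 le_top).hom := by
    intro x hx
    have h2 := ker_le_map_of_isPushout hpo hb
    refine h2 ?_
    rw [RingHom.mem_ker, Scheme.Hom.appLE, CommRingCat.hom_comp, RingHom.comp_apply, show (i.app U.1).hom x = 0 from hx,
      map_zero]
  refine eq_bot_iff.2 ((Ideal.pow_right_mono hle n).trans ?_)
  rw [← Ideal.map_pow, hnil, Ideal.map_bot]

end Groth.Agent.ThickAff3
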