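import Groth.Agent.Lib.ThickAff3.BaseChange
import Mathlib.RingTheory.Flat.EquationalCriterion
import Mathlib.RingTheory.HopkinsLevitzki
import Mathlib.AlgebraicGeometry.Morphisms.Flat

/-!
Global functions of a flat scheme over an Artinian local ring with `Γ` of the closed fibre the residue field.
-/

set_option autoImplicit false

universe u

open AlgebraicGeometry CategoryTheory Limits TopologicalSpace

namespace Groth.Agent.ThickAff3

theorem exists_sum_of_mem_smul_top {C M : Type u} [CommRing C] [AddCommGroup M] [Module C M] (J : Ideal C)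
    {y : M} (hy : y ∈ J • (⊤ : Submodule C M)) :
    ∃ (n : ℕ) (j : Fin n → J) (m : Fin n → M), y = ∑ i, (j i : C) • m i := by
  refine Submodule.smul_induction_on hy (fun r hr m _ => ⟨1, fun _ => ⟨r, hr⟩, fun _ => m, by simp⟩) ?_
  rintro y z ⟨n, j, m, rfl⟩ ⟨n', j', m', rfl⟩
  exact ⟨n + n', Fin.append j j', Fin.append m m', by simp [Fin.sum_univ_add]⟩

/-- Colon ideals commute with flat base change. -/
theorem mem_colon_smul_top_of_flat {C M : Type u} [CommRing C] [AddCommGroup M] [Module C M] [Module.Flat C M]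
    (J K : Ideal C) (c : C) (hK : ∀ r, c * r ∈ J → r ∈ K) {a : M} (ha : c • a ∈ J • (⊤ : Submodule C M)) :
    a ∈ K • (⊤ : Submodule C M) := by
  obtain ⟨n, j, m, hjm⟩ := exists_sum_of_mem_smul_top J ha
  obtain ⟨k, r, y, hr, hrel⟩ := Module.Flat.isTrivialRelation_of_sum_smul_eq_zero
    (f := (fun o => o.elim c fun i => -(j i : C) : Option (Fin n) → C))
    (x := fun o => o.elim a m) (by
      rw [Fintype.sum_option]
      simp [hjm, Finset.sum_neg_distrib])
  rw [show a = ∑ l, r none l • y l from hr none]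
  refine sum_mem fun l _ => Submodule.smul_mem_smul (hK _ ?_) Submodule.mem_top
  have := hrel l
  rw [Fintype.sum_option] at this
  simp only [Option.elim_none, Option.elim_some, neg_mul, Finset.sum_neg_distrib, add_neg_eq_zero] at this
  rw [this]
  exact sum_mem fun i _ => J.mul_mem_right _ (j i).2

variable {C : Type u} [CommRing C] {X : Scheme.{u}} (g : X ⟶ Spec (CommRingCat.of C))

/-- The structure map of sections. -/
noncomputable def str (U : X.Opens) : C →+* Γ(X, U) :=
  ((Scheme.ΓSpecIso (CommRingCat.of C)).inv ≫ g.appLE ⊤ U le_top).hom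

theorem res_str {U V : X.Opens} (h : V ≤ U) (c : C) : res X h (str g U c) = str g V c := by
  change (((Scheme.ΓSpecIso (CommRingCat.of C)).inv ≫ g.appLE ⊤ U le_top) ≫ X.presheaf.map (homOfLE h).op).hom c = _
  rw [Category.assoc, Scheme.Hom.appLE_map]
  rfl

theorem mem_map_of_str_mul_mem [Flat g] {U : X.Opens} (hU : IsAffineOpen U) (J K : Ideal C) (c : C)
    (hK : ∀ r, c * r ∈ J → r ∈ K) {a : Γ(X, U)} (ha : str g U c * a ∈ J.map (str g U)) :
    a ∈ K.map (str g U) := by
  algebraize [str g U]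
  have hflat : (str g U).Flat :=
    (RingHom.Flat.of_bijective (ConcreteCategory.bijective_of_isIso (Scheme.ΓSpecIso (CommRingCat.of C)).inv)).comp
      (HasRingHomProperty.appLE @Flat g ‹_› ⟨⊤, isAffineOpen_top _⟩ ⟨U, hU⟩ le_top)
  have : Module.Flat C Γ(X, U) := hflat
  have key : ∀ (I : Ideal C) (x : Γ(X, U)),
      x ∈ I • (⊤ : Submodule C Γ(X, U)) ↔ x ∈ I.map (str g U) := fun I x => by
    rw [Ideal.smul_top_eq_map]
    rfl
  rw [← key] at ha ⊢
  exact mem_colon_smul_top_of_flat J K c hK ha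

variable [IsLocalRing C] [IsArtinianRing C]

/-- Sections lying locally in `I` come from `I`, when the functions on the closed fibre are constant. -/
theorem exists_eq_str [Flat g] {B : Type u} [CommRing B] (q : C →+* B) (hq : Function.Surjective q)
    {X₀ : Scheme.{u}} (i : X₀ ⟶ X)
    (κ : B →+* Γ(X₀, ⊤)) (hκ : Function.Surjective κ)
    (hcompat : ∀ (U : X.Opens) (c : C), i.app U (str g U c) = res X₀ le_top (κ (q c)))
    (hker : ∀ U : X.affineOpens, RingHom.ker (i.app U).hom = (IsLocalRing.maximalIdeal C).map (str g U.1))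
    (I : Ideal C) : ∀ s : Γ(X, ⊤), (∀ U : X.affineOpens, res X le_top s ∈ I.map (str g U.1)) →
      ∃ c ∈ I, str g ⊤ c = s := by
  induction I using WellFoundedLT.induction with
  | _ I ih =>
  intro s hs
  by_cases hI : I = ⊥
  · refine ⟨0, zero_mem _, ?_⟩
    rw [map_zero]
    refine eq_of_res (fun U : X.affineOpens => (U.1 : X.Opens)) (fun _ => le_top)
      (iSup_affineOpens_eq_top X).ge _ _ fun U => ?_
    have := hs U
    rw [hI, Ideal.map_bot, Ideal.mem_bot] at this
    rw [map_zero, this]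
  obtain ⟨J, hJI, hmax⟩ := (wellFounded_gt (α := Ideal C)).has_min {J : Ideal C | J < I} ⟨⊥, bot_lt_iff_ne_bot.2 hI⟩
  replace hJI : J < I := hJI
  obtain ⟨c, hcI, hcJ⟩ := SetLike.exists_of_lt hJI
  have hsup : I = J ⊔ Ideal.span {c} := by
    by_contra h
    refine hmax (J ⊔ Ideal.span {c}) (lt_of_le_of_ne (sup_le hJI.le ((Ideal.span_singleton_le_iff_mem _).2 hcI)) (Ne.symm h))
      (left_lt_sup.2 fun h' => hcJ (h' (Ideal.mem_span_singleton_self c)))
  have hcm : ∀ μ ∈ IsLocalRing.maximalIdeal C, μ * c ∈ J := by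
    intro μ hμ
    by_contra h
    have hle : J ⊔ Ideal.span {μ * c} ≤ I :=
      sup_le hJI.le ((Ideal.span_singleton_le_iff_mem _).2 (I.mul_mem_left _ hcI))
    have heq : J ⊔ Ideal.span {μ * c} = I := by
      by_contra hne
      exact hmax _ (lt_of_le_of_ne hle hne) (left_lt_sup.2 fun h' => h (h' (Ideal.mem_span_singleton_self _)))
    have hc' := hcI
    rw [← heq] at hc'
    obtain ⟨j, hj, z, hz, hjz⟩ := Submodule.mem_sup.1 hc'
    obtain ⟨r, rfl⟩ := Ideal.mem_span_singleton'.1 hz
    have hu : IsUnit (1 - r * μ) := IsLocalRing.notMem_maximalIdeal.1 fun h1 =>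
      (IsLocalRing.maximalIdeal.isMaximal C).ne_top ((Ideal.eq_top_iff_one _).2
        (by simpa using add_mem h1 (Ideal.mul_mem_left _ r hμ)))
    obtain ⟨v, hv⟩ := hu.exists_left_inv
    refine hcJ ?_
    have : c = v * j := by linear_combination (-c) * hv - v * hjz
    rw [this]
    exact J.mul_mem_left _ hj
  have hcolon : ∀ r, c * r ∈ J → r ∈ IsLocalRing.maximalIdeal C := fun r hr => by
    by_contra h
    obtain ⟨v, hv⟩ := (IsLocalRing.notMem_maximalIdeal.1 h).exists_left_inv
    have : c = v * (c * r) := by linear_combination (-c) * hv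
    exact hcJ (this ▸ J.mul_mem_left _ hr)
  have hdec : ∀ U : X.affineOpens, ∃ a : Γ(X, U.1), res X le_top s - str g U.1 c * a ∈ J.map (str g U.1) := by
    intro U
    have := hs U
    rw [hsup, Ideal.map_sup, Ideal.map_span, Set.image_singleton] at this
    obtain ⟨y, hy, z, hz, hyz⟩ := Submodule.mem_sup.1 this
    obtain ⟨a, rfl⟩ := Ideal.mem_span_singleton'.1 hz
    exact ⟨a, by rwa [← hyz, mul_comm, add_sub_cancel_right]⟩
  choose a ha using hdec
  let sf : ∀ U : X.affineOpens, Γ(X₀, i ⁻¹ᵁ U.1) := fun U => i.app U.1 (a U)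
  have hglue : TopCat.Presheaf.IsCompatible X₀.presheaf (fun U : X.affineOpens => i ⁻¹ᵁ U.1) sf := by
    intro U V
    change res X₀ inf_le_left (i.app U.1 (a U)) = res X₀ inf_le_right (i.app V.1 (a V))
    have hcov : ∀ p : (U.1 ⊓ V.1 : X.Opens), ∃ W : X.affineOpens, (p : X) ∈ W.1 ∧ W.1 ≤ U.1 ⊓ V.1 := by
      intro p
      obtain ⟨W, hW, hp, hle⟩ := exists_isAffineOpen_mem_and_subset p.2
      exact ⟨⟨W, hW⟩, hp, hle⟩
    choose W hpW hWle using hcov
    refine eq_of_res (fun p => i ⁻¹ᵁ (W p).1) (fun p => i.preimage_mono (hWle p)) (fun x hx => ?_) _ _ fun p => ?_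
    · exact Opens.mem_iSup.2 ⟨⟨i x, hx⟩, hpW _⟩
    refine (res_res X₀ _ _ _).trans (Eq.trans ?_ (res_res X₀ _ _ _).symm)
    rw [← app_res i ((hWle p).trans inf_le_left) (a U), ← app_res i ((hWle p).trans inf_le_right) (a V),
      ← sub_eq_zero, ← map_sub, ← RingHom.mem_ker, hker (W p)]
    refine mem_map_of_str_mul_mem g (W p).2 J _ c hcolon ?_
    have hres : ∀ (U' : X.affineOpens) (h : (W p).1 ≤ U'.1),
        res X le_top s - str g (W p).1 c * res X h (a U') ∈ J.map (str g (W p).1) := by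
      intro U' h
      have := Ideal.mem_map_of_mem (res X h) (ha U')
      rw [Ideal.map_map, map_sub, map_mul, res_str, res_res, show (res X h).comp (str g U'.1) = str g (W p).1 from
        RingHom.ext fun c => res_str g h c] at this
      exact this
    have := sub_mem (hres V ((hWle p).trans inf_le_right)) (hres U ((hWle p).trans inf_le_left))
    rwa [sub_sub_sub_cancel_left, ← mul_sub] at this
  obtain ⟨b, hb, -⟩ := X₀.sheaf.existsUnique_gluing' (fun U : X.affineOpens => i ⁻¹ᵁ U.1) ⊤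
    (fun U => homOfLE le_top) (by rw [← Scheme.Hom.preimage_iSup, iSup_affineOpens_eq_top]; exact le_of_eq (Scheme.Hom.preimage_top i).symm)
    sf hglue
  obtain ⟨bl, hbl⟩ := hκ b
  obtain ⟨l, rfl⟩ := hq bl
  obtain ⟨j, hjJ, hj⟩ := ih J hJI (s - str g ⊤ (c * l)) fun U => by
    have hd : a U - str g U.1 l ∈ (IsLocalRing.maximalIdeal C).map (str g U.1) := by
      rw [← hker U, RingHom.mem_ker, map_sub, hcompat, hbl, sub_eq_zero]
      exact (hb U).symm
    have h1 : str g U.1 c * (a U - str g U.1 l) ∈ J.map (str g U.1) := by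
      have h2 := Ideal.mul_mem_mul (Ideal.mem_map_of_mem (str g U.1) (Ideal.mem_span_singleton_self c)) hd
      rw [← Ideal.map_mul] at h2
      refine Ideal.map_mono ?_ h2
      rw [Ideal.mul_le]
      intro x hx y hy
      obtain ⟨r, rfl⟩ := Ideal.mem_span_singleton'.1 hx
      rw [mul_assoc, mul_comm c]
      exact J.mul_mem_left _ (hcm y hy)
    have h3 := add_mem (ha U) h1
    rw [map_sub, res_str, map_mul]
    convert h3 using 1
    ring
  exact ⟨j + c * l, I.add_mem (hJI.le hjJ) (I.mul_mem_right _ hcI), by rw [map_add, hj, sub_add_cancel]⟩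

omit [IsLocalRing C] [IsArtinianRing C] in
/-- The comparison of structure maps along the base change to a quotient. -/
theorem fibre_data {B : Type u} [CommRing B] (q : C →+* B) (hq : Function.Surjective q) {X₀ : Scheme.{u}}
    {i : X₀ ⟶ X} {f₀ : X₀ ⟶ Spec (CommRingCat.of B)}
    (hsq : IsPullback i f₀ g (Spec.map (CommRingCat.ofHom q))) :
    (∀ (U : X.Opens) (c : C), i.app U (str g U c) =
      res X₀ le_top (((Scheme.ΓSpecIso (CommRingCat.of B)).inv ≫ f₀.appTop).hom (q c))) ∧
    ∀ U : X.affineOpens, RingHom.ker (i.app U).hom ≤ (RingHom.ker q).map (str g U.1) := by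
  constructor
  · intro U c
    have h : g.appLE ⊤ U le_top ≫ i.appLE U (i ⁻¹ᵁ U) le_rfl =
        (Spec.map (CommRingCat.ofHom q)).appLE ⊤ ⊤ le_top ≫ f₀.appLE ⊤ (i ⁻¹ᵁ U) le_top := by
      rw [Scheme.Hom.appLE_comp_appLE, Scheme.Hom.appLE_comp_appLE]
      simp only [hsq.w]
    have h2 : (Spec.map (CommRingCat.ofHom q)).appLE ⊤ ⊤ le_top =
        (Scheme.ΓSpecIso (CommRingCat.of C)).hom ≫ CommRingCat.ofHom q ≫
          (Scheme.ΓSpecIso (CommRingCat.of B)).inv := by
      rw [← Scheme.ΓSpecIso_naturality_assoc, Iso.hom_inv_id, Category.comp_id]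
      simp [Scheme.Hom.appLE, Scheme.Hom.appTop]
    have h3 : (Scheme.ΓSpecIso (CommRingCat.of C)).inv ≫ g.appLE ⊤ U le_top ≫ i.app U =
        CommRingCat.ofHom q ≫ ((Scheme.ΓSpecIso (CommRingCat.of B)).inv ≫ f₀.appTop) ≫
          X₀.presheaf.map (homOfLE (le_top : i ⁻¹ᵁ U ≤ ⊤)).op := by
      rw [Scheme.Hom.app_eq_appLE, h, h2, Category.assoc, Category.assoc, Category.assoc, Iso.inv_hom_id_assoc,
        Scheme.Hom.appTop]
      rfl
    exact congrArg (fun φ : CommRingCat.of C ⟶ Γ(X₀, i ⁻¹ᵁ U) => φ.hom c) h3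
  · intro U x hx
    have hpo := FlatH4.isPushout_sections (UY := i ⁻¹ᵁ U.1) hsq (US := ⊤) (UT := ⊤) le_top (UX := U.1) le_top
      (by simp) (isAffineOpen_top _) (isAffineOpen_top _) U.2
    have h2 : (Spec.map (CommRingCat.ofHom q)).appLE ⊤ ⊤ le_top =
        (Scheme.ΓSpecIso (CommRingCat.of C)).hom ≫ CommRingCat.ofHom q ≫
          (Scheme.ΓSpecIso (CommRingCat.of B)).inv := by
      rw [← Scheme.ΓSpecIso_naturality_assoc, Iso.hom_inv_id, Category.comp_id]
      simp [Scheme.Hom.appLE, Scheme.Hom.appTop]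
    rw [h2] at hpo
    have h4 := ker_le_map_of_isPushout hpo
      ((Scheme.ΓSpecIso (CommRingCat.of B)).commRingCatIsoToRingEquiv.symm.surjective.comp
        (hq.comp (Scheme.ΓSpecIso (CommRingCat.of C)).commRingCatIsoToRingEquiv.surjective)) (x := x) (by
      rw [RingHom.mem_ker, Scheme.Hom.appLE, CommRingCat.hom_comp, RingHom.comp_apply,
        show (i.app U.1).hom x = 0 from hx, map_zero])
    refine (Ideal.map_le_iff_le_comap.2 fun y hy => ?_) h4
    have hy' : q ((Scheme.ΓSpecIso (CommRingCat.of C)).hom.hom y) = 0 := by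
      refine (Scheme.ΓSpecIso (CommRingCat.of B)).commRingCatIsoToRingEquiv.symm.injective ?_
      rw [map_zero]
      exact hy
    have := Ideal.mem_map_of_mem (str g U.1) (RingHom.mem_ker.2 hy')
    rw [Ideal.mem_comap]
    convert this using 1
    exact congrArg (fun φ : Γ(Spec (CommRingCat.of C), ⊤) ⟶ Γ(X, U.1) => φ.hom y)
      (Iso.hom_inv_id_assoc (Scheme.ΓSpecIso (CommRingCat.of C)) (g.appLE ⊤ U.1 le_top)).symm

theorem str_top_bijective [Flat g] {B : Type u} [CommRing B] [Nontrivial B] (q : C →+* B) (hq : Function.Surjective q)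
    (hkq : RingHom.ker q = IsLocalRing.maximalIdeal C) {X₀ : Scheme.{u}}
    {i : X₀ ⟶ X} {f₀ : X₀ ⟶ Spec (CommRingCat.of B)}
    (hsq : IsPullback i f₀ g (Spec.map (CommRingCat.ofHom q)))
    (h0 : Function.Bijective ((Scheme.ΓSpecIso (CommRingCat.of B)).inv ≫ f₀.appTop)) :
    Function.Bijective (str g ⊤) := by
  obtain ⟨hc, hk⟩ := fibre_data g q hq hsq
  have hker : ∀ U : X.affineOpens,
      RingHom.ker (i.app U).hom = (IsLocalRing.maximalIdeal C).map (str g U.1) := fun U =>
    le_antisymm (hkq ▸ hk U) (Ideal.map_le_iff_le_comap.2 fun c hcm => by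
      rw [Ideal.mem_comap, RingHom.mem_ker]
      refine (hc U.1 c).trans ?_
      rw [show q c = 0 from hkq.ge hcm, map_zero, map_zero])
  constructor
  · rw [injective_iff_map_eq_zero]
    intro c hc0
    by_contra hne
    obtain ⟨x⟩ : Nonempty X₀ := by
      by_contra hemp
      rw [not_nonempty_iff] at hemp
      have : Subsingleton Γ(X₀, ⊤) := inferInstance
      exact zero_ne_one (h0.1 (Subsingleton.elim (α := Γ(X₀, ⊤)) _ _) : (0 : B) = 1)
    obtain ⟨U, hU, hxU, -⟩ := exists_isAffineOpen_mem_and_subset (Opens.mem_top (i x))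
    have : (1 : Γ(X, U)) ∈ (IsLocalRing.maximalIdeal C).map (str g U) := by
      refine mem_map_of_str_mul_mem g hU ⊥ _ c (fun r hr => ?_) ?_
      · by_contra h
        rw [Ideal.mem_bot] at hr
        exact hne ((IsLocalRing.notMem_maximalIdeal.1 h).mul_left_eq_zero.1 hr)
      · rw [← res_str g (le_top : U ≤ ⊤), hc0, map_zero, zero_mul]
        exact zero_mem _
    rw [← hker ⟨U, hU⟩, RingHom.mem_ker, map_one] at this
    have h1 : (1 : X₀.presheaf.stalk x) = 0 := by
      have := congrArg (X₀.presheaf.germ (i ⁻¹ᵁ U) x hxU).hom this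
      rwa [map_one, map_zero] at this
    exact one_ne_zero h1
  · intro s
    obtain ⟨c, -, hcs⟩ := exists_eq_str g q hq i _ h0.2 hc hker ⊤ s fun U => by
      rw [Ideal.map_top]
      trivial
    exact ⟨c, hcs⟩

end Groth.Agent.ThickAff3
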