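import Groth.Agent.Lib.ThickAff3.Sections
import Mathlib.AlgebraicGeometry.IdealSheaf.Subscheme
import Mathlib.AlgebraicGeometry.Morphisms.Affine

/-!
A nilpotent thickening of an affine scheme is affine.
-/

set_option autoImplicit false

universe u

open AlgebraicGeometry CategoryTheory TopologicalSpace

namespace Groth.Agent.ThickAff3

theorem isAffine_of_sq_zero {Y Y' : Scheme.{u}} (t : Y ⟶ Y') [IsClosedImmersion t] [Surjective t] [IsAffine Y]
    (hsq : ∀ (U : Y'.Opens) (x y : Γ(Y', U)), t.app U x = 0 → t.app U y = 0 → x * y = 0) : IsAffine Y' := by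
  have hsurj := app_top_surjective t hsq
  have hex : ∀ p : Y, ∃ F : Γ(Y', ⊤), t p ∈ Y'.basicOpen F ∧ IsAffineOpen (Y'.basicOpen F) := by
    intro p
    obtain ⟨V, hV, hpV, -⟩ := exists_isAffineOpen_mem_and_subset (Opens.mem_top (t p))
    obtain ⟨h, hle, hp⟩ := (isAffineOpen_top Y).exists_basicOpen_le (⟨p, hpV⟩ : (t ⁻¹ᵁ V : Y.Opens)) (Opens.mem_top p)
    obtain ⟨F, hF⟩ := hsurj h
    have hpre : t ⁻¹ᵁ Y'.basicOpen F = Y.basicOpen h := by
      rw [Scheme.preimage_basicOpen, ← hF]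
      rfl
    have hFV : Y'.basicOpen F ≤ V := by
      intro q hq
      obtain ⟨p', rfl⟩ := t.surjective q
      exact hle (hpre.le hq : p' ∈ Y.basicOpen h)
    refine ⟨F, hpre.ge hp, ?_⟩
    have : Y'.basicOpen (res Y' le_top F : Γ(Y', V)) = Y'.basicOpen F :=
      (Y'.basicOpen_res F (homOfLE le_top).op).trans (inf_eq_right.2 hFV)
    exact this ▸ hV.basicOpen _
  choose F hmem haff using hex
  refine isAffine_of_isAffineOpen_basicOpen (Set.range F) ?_ ?_
  · have htop : ∀ p : Y, p ∈ ⨆ q, Y.basicOpen (t.appTop (F q)) := fun p => Opens.mem_iSup.2 ⟨p, by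
      have := hmem p
      change p ∈ t ⁻¹ᵁ Y'.basicOpen (F p) at this
      rwa [Scheme.preimage_basicOpen] at this⟩
    have h1 : Ideal.span (t.appTop '' Set.range F) = ⊤ := by
      rw [← IsAffineOpen.iSup_basicOpen_eq_self_iff (isAffineOpen_top Y)]
      refine top_le_iff.1 fun p _ => ?_
      obtain ⟨q, hq⟩ := Opens.mem_iSup.1 (htop p)
      exact Opens.mem_iSup.2 ⟨⟨_, ⟨F q, ⟨q, rfl⟩, rfl⟩⟩, hq⟩
    rw [Ideal.eq_top_iff_one]
    rw [← Ideal.map_span, Ideal.eq_top_iff_one] at h1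
    obtain ⟨z, hz, hz1⟩ := (Ideal.mem_map_iff_of_surjective t.appTop.hom hsurj).1 h1
    have hker : t.app ⊤ (z - 1) = 0 := by
      rw [map_sub, map_one]
      exact sub_eq_zero.2 hz1
    have : IsUnit z := by
      have h2 : (z - 1) * (z - 1) = 0 := hsq _ _ _ hker hker
      exact isUnit_iff_exists_inv.2 ⟨2 - z, by linear_combination -h2⟩
    exact (Ideal.eq_top_of_isUnit_mem _ hz this) ▸ Submodule.mem_top
  · rintro _ ⟨p, rfl⟩
    exact haff p

theorem ker_app_of_eq {Y Y' : Scheme.{u}} (t t' : Y ⟶ Y') [QuasiCompact t] (e : t' = t) (U : Y'.affineOpens)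
    (z : Γ(Y', U.1)) (hz : t'.app U.1 z = 0) : z ∈ RingHom.ker (t.app U.1).hom := by
  subst e
  exact hz

/-- The intermediate closed subscheme is an affine square-zero thickening. -/
theorem isAffine_subscheme {Y Y' : Scheme.{u}} (t : Y ⟶ Y') [IsClosedImmersion t] [Surjective t] [IsAffine Y]
    (J : Y'.IdealSheafData) (h1 : ∀ U : Y'.affineOpens, J.ideal U ≤ RingHom.ker (t.app U).hom)
    (h2 : ∀ U : Y'.affineOpens, RingHom.ker (t.app U).hom ^ 2 ≤ J.ideal U) :
    IsAffine J.subscheme ∧ Surjective J.subschemeι := by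
  have hle : J.subschemeι.ker ≤ t.ker := by
    rw [Scheme.IdealSheafData.ker_subschemeι]
    exact fun U => (h1 U).trans (t.ker_apply U).ge
  obtain ⟨s, hs⟩ : ∃ s : Y ⟶ J.subscheme, s ≫ J.subschemeι = t :=
    ⟨_, IsClosedImmersion.lift_fac J.subschemeι t hle⟩
  have : IsClosedImmersion (s ≫ J.subschemeι) := by rw [hs]; infer_instance
  have : IsClosedImmersion s := IsClosedImmersion.of_comp_isClosedImmersion s J.subschemeι
  have hι : Surjective J.subschemeι := ⟨fun q => by
    obtain ⟨p, rfl⟩ := t.surjective q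
    exact ⟨s p, by rw [← Scheme.Hom.comp_apply, hs]⟩⟩
  have : Surjective s := ⟨fun z => by
    obtain ⟨p, hp⟩ := t.surjective (J.subschemeι z)
    exact ⟨p, J.subschemeι.isClosedEmbedding.injective (by rw [← Scheme.Hom.comp_apply, hs, hp])⟩⟩
  refine ⟨isAffine_of_sq_zero s (mul_eq_zero_of_cover s
    (fun U : Y'.affineOpens => J.subschemeι ⁻¹ᵁ (U.1 : Y'.Opens)) (fun U => U.2.preimage _) ?_ ?_), hι⟩
  · rw [← Scheme.Hom.preimage_iSup, iSup_affineOpens_eq_top]
    rfl
  intro U x y hx hy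
  obtain ⟨x, rfl⟩ := J.subschemeι_app_surjective U x
  obtain ⟨y, rfl⟩ := J.subschemeι_app_surjective U y
  have key : ∀ z, s.app _ (J.subschemeι.app U z) = 0 → z ∈ RingHom.ker (t.app U).hom := fun z hz =>
    ker_app_of_eq t (s ≫ J.subschemeι) hs U z (by rw [Scheme.Hom.comp_app]; exact hz)
  have hxy : x * y ∈ RingHom.ker (J.subschemeι.app U).hom := by
    rw [J.ker_subschemeι_app U]
    exact h2 U (by rw [pow_two]; exact Ideal.mul_mem_mul (key x hx) (key y hy))
  rw [← map_mul]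
  exact hxy

theorem isAffine_of_pow (m : ℕ) : ∀ {Y Y' : Scheme.{u}} (t : Y ⟶ Y') [IsClosedImmersion t] [Surjective t]
    [IsAffine Y], (∀ U : Y'.affineOpens, RingHom.ker (t.app U).hom ^ (2 ^ m) = ⊥) → IsAffine Y' := by
  induction m with
  | zero =>
    intro Y Y' t _ _ _ h
    refine isAffine_of_sq_zero t (mul_eq_zero_of_cover t (fun U : Y'.affineOpens => (U.1 : Y'.Opens))
      (fun U => U.2) (iSup_affineOpens_eq_top Y') fun U x y hx hy => ?_)
    have := h U
    rw [pow_zero, pow_one] at this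
    rw [(Submodule.mem_bot _).1 (this.le hx), zero_mul]
  | succ m ih =>
    intro Y Y' t _ _ _ h
    have hJ : ∀ U : Y'.affineOpens, (t.ker ^ 2).ideal U = RingHom.ker (t.app U).hom ^ 2 := fun U => by
      rw [Scheme.IdealSheafData.ideal_pow, Pi.pow_apply, t.ker_apply]
    obtain ⟨_, _⟩ := isAffine_subscheme t (t.ker ^ 2)
      (fun U => (hJ U).le.trans (Ideal.pow_le_self two_ne_zero)) (fun U => (hJ U).ge)
    refine ih (t.ker ^ 2).subschemeι fun U => ?_
    rw [Scheme.IdealSheafData.ker_subschemeι_app, hJ, ← pow_mul, ← pow_succ']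
    exact h U

/-- A nilpotent thickening of an affine scheme is affine. -/
theorem isAffine_of_nilpotent_thickening {Y Y' : Scheme.{u}} (t : Y ⟶ Y') [IsClosedImmersion t] [Surjective t]
    [IsAffine Y] (N : ℕ) (h : ∀ U : Y'.affineOpens, RingHom.ker (t.app U).hom ^ N = ⊥) : IsAffine Y' :=
  isAffine_of_pow N t fun U => le_bot_iff.1 ((Ideal.pow_le_pow_right Nat.lt_two_pow_self.le).trans (h U).le)

end Groth.Agent.ThickAff3
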