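import Mathlib.AlgebraicGeometry.Morphisms.ClosedImmersion
import Mathlib.AlgebraicGeometry.AffineScheme

/-!
Lifting global functions along square-zero thickenings of affine schemes, by a Čech computation with a
partition of unity.
-/

set_option autoImplicit false

universe u

open AlgebraicGeometry CategoryTheory TopologicalSpace

namespace Groth.Agent.ThickAff3

variable {Y Y' : Scheme.{u}} (t : Y ⟶ Y')

/-- restriction -/
abbrev res (X : Scheme.{u}) {V U : X.Opens} (h : V ≤ U) : Γ(X, U) →+* Γ(X, V) :=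
  (X.presheaf.map (homOfLE h).op).hom

theorem res_res (X : Scheme.{u}) {W V U : X.Opens} (h : V ≤ U) (h' : W ≤ V) (x : Γ(X, U)) :
    res X h' (res X h x) = res X (h'.trans h) x := by
  change (X.presheaf.map (homOfLE h).op ≫ X.presheaf.map (homOfLE h').op).hom x = _
  rw [← X.presheaf.map_comp]
  rfl

theorem app_res {V U : Y'.Opens} (h : V ≤ U) (x : Γ(Y', U)) :
    t.app V (res Y' h x) = res Y (t.preimage_mono h) (t.app U x) :=
  congrArg (fun φ : Γ(Y', U) ⟶ Γ(Y, t ⁻¹ᵁ V) => φ.hom x) (t.naturality (homOfLE h).op)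

theorem eq_of_res {X : Scheme.{u}} {U : X.Opens} {ι : Type*} (V : ι → X.Opens) (hV : ∀ i, V i ≤ U)
    (hc : U ≤ iSup V) (x y : Γ(X, U)) (h : ∀ i, res X (hV i) x = res X (hV i) y) : x = y :=
  X.sheaf.eq_of_locally_eq' V U (fun i => homOfLE (hV i)) hc x y h

/-- On an affine cover pulled back from a square-zero situation every kernel product vanishes. -/
theorem mul_eq_zero_of_cover {ι : Type*} (W : ι → Y'.Opens) (hW : ∀ i, IsAffineOpen (W i))
    (hc : iSup W = ⊤) (hsq : ∀ i x y, t.app (W i) x = 0 → t.app (W i) y = 0 → x * y = 0)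
    [IsClosedImmersion t] (U : Y'.Opens) (x y : Γ(Y', U)) (hx : t.app U x = 0) (hy : t.app U y = 0) :
    x * y = 0 := by
  classical
  have hb : ∀ p : U, ∃ i, ∃ f : Γ(Y', W i), (p : Y') ∈ Y'.basicOpen f ∧ Y'.basicOpen f ≤ U := by
    intro p
    obtain ⟨i, hi⟩ := Opens.mem_iSup.1 (hc.ge (Opens.mem_top (p : Y')))
    obtain ⟨f, hf, hf'⟩ := (hW i).exists_basicOpen_le (⟨(p : Y'), p.2⟩ : U) hi
    exact ⟨i, f, hf', hf⟩
  choose i f hmem hle using hb
  refine eq_of_res (fun p => Y'.basicOpen (f p)) hle (fun p hp => Opens.mem_iSup.2 ⟨⟨p, hp⟩, hmem _⟩) _ _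
    fun p => ?_
  rw [map_mul, map_zero]
  have := (hW (i p)).isLocalization_basicOpen (f p)
  -- kernel elements on the basic open come from kernel elements upstairs
  have key : ∀ z : Γ(Y', Y'.basicOpen (f p)), t.app _ z = 0 → ∃ (z' : Γ(Y', W (i p))) (n : ℕ),
      t.app _ z' = 0 ∧ res Y' (Y'.basicOpen_le (f p)) z' =
        res Y' (Y'.basicOpen_le (f p)) (f p) ^ n * z := by
    intro z hz
    obtain ⟨n, w, hw⟩ := IsLocalization.Away.surj (f p) z
    have hwz : res Y' (Y'.basicOpen_le (f p)) w = res Y' (Y'.basicOpen_le (f p)) (f p) ^ n * z := by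
      rw [mul_comm]; exact hw.symm
    have h0 : res Y (t.preimage_mono (Y'.basicOpen_le (f p))) (t.app _ w) = 0 := by
      rw [← app_res t (Y'.basicOpen_le (f p)), hwz, map_mul, hz, mul_zero]
    have hA : IsAffineOpen (t ⁻¹ᵁ W (i p)) := (hW (i p)).preimage t
    have e : Y.basicOpen (t.app _ (f p)) ≤ t ⁻¹ᵁ Y'.basicOpen (f p) :=
      (Scheme.preimage_basicOpen t (f p)).ge
    have h1 : res Y (Y.basicOpen_le (t.app _ (f p))) (t.app _ w) = 0 := by
      rw [← res_res Y (t.preimage_mono (Y'.basicOpen_le (f p))) e, h0, map_zero]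
    have := hA.isLocalization_basicOpen (t.app _ (f p))
    obtain ⟨⟨_, m, rfl⟩, hm⟩ :=
      (IsLocalization.map_eq_zero_iff (.powers (t.app (W (i p)) (f p))) _ _).1 h1
    exact ⟨f p ^ m * w, m + n, by rw [map_mul, map_pow, hm], by
      rw [map_mul, map_pow, hwz, pow_add, mul_assoc]⟩
  obtain ⟨x', n, hx', hxn⟩ := key _ (by rw [app_res, hx, map_zero] : t.app _ (res Y' (hle p) x) = 0)
  obtain ⟨y', m, hy', hym⟩ := key _ (by rw [app_res, hy, map_zero] : t.app _ (res Y' (hle p) y) = 0)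
  have h2 : res Y' (Y'.basicOpen_le (f p)) (f p) ^ (n + m) * (res Y' (hle p) x * res Y' (hle p) y) = 0 := by
    rw [pow_add, mul_mul_mul_comm, ← hxn, ← hym, ← map_mul, hsq _ _ _ hx' hy', map_zero]
  exact ((IsLocalization.Away.algebraMap_isUnit (S := Γ(Y', Y'.basicOpen (f p))) (f p)).pow (n + m)).mul_right_eq_zero.1 h2

/-- Global functions lift along a square-zero thickening of an affine scheme. -/
theorem app_top_surjective [IsClosedImmersion t] [Surjective t] [IsAffine Y]
    (hsq : ∀ (U : Y'.Opens) (x y : Γ(Y', U)), t.app U x = 0 → t.app U y = 0 → x * y = 0) :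
    Function.Surjective t.appTop := by
  classical
  intro g
  let Q := {h : Γ(Y, ⊤) // ∃ U : Y'.Opens, IsAffineOpen U ∧ t ⁻¹ᵁ U = Y.basicOpen h}
  have hcover : ∀ p : Y, ∃ h : Q, p ∈ Y.basicOpen h.1 := by
    intro p
    obtain ⟨V, hV, hpV, -⟩ := exists_isAffineOpen_mem_and_subset (Opens.mem_top (t p))
    obtain ⟨h, hle, hp⟩ := (isAffineOpen_top Y).exists_basicOpen_le (⟨p, hpV⟩ : (t ⁻¹ᵁ V : Y.Opens)) (Opens.mem_top p)
    obtain ⟨v, hv⟩ := t.app_surjective V hV (res Y le_top h)
    refine ⟨⟨h, Y'.basicOpen v, hV.basicOpen v, ?_⟩, hp⟩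
    rw [Scheme.preimage_basicOpen, hv]
    exact (Y.basicOpen_res h (homOfLE le_top).op).trans (inf_eq_right.2 hle)
  obtain ⟨s, hs⟩ := (isCompact_univ (X := Y)).elim_finite_subcover (fun h : Q => (Y.basicOpen h.1 : Set Y))
    (fun h => (Y.basicOpen h.1).2) (fun p _ => Set.mem_iUnion.2 (hcover p))
  let h : s → Γ(Y, ⊤) := fun j => j.1.1
  choose U hUaff hU using fun j : s => j.1.2
  have hspan : Ideal.span (Set.range h) = ⊤ := by
    rw [← IsAffineOpen.iSup_basicOpen_eq_self_iff (isAffineOpen_top Y)]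
    refine top_le_iff.1 fun p _ => ?_
    obtain ⟨q, hq, hpq⟩ := Set.mem_iUnion₂.1 (hs (Set.mem_univ p))
    exact Opens.mem_iSup.2 ⟨⟨h ⟨q, hq⟩, ⟨⟨q, hq⟩, rfl⟩⟩, hpq⟩
  have hUtop : iSup U = ⊤ := by
    refine top_le_iff.1 fun q _ => ?_
    obtain ⟨p, rfl⟩ := t.surjective q
    obtain ⟨j, hj, hpj⟩ := Set.mem_iUnion₂.1 (hs (Set.mem_univ p))
    refine Opens.mem_iSup.2 ⟨⟨j, hj⟩, ?_⟩
    change p ∈ t ⁻¹ᵁ U ⟨j, hj⟩
    rw [hU]
    exact hpj
  have hexv : ∀ (i : s) (z : Γ(Y, ⊤)), ∃ v : Γ(Y', U i), t.app _ v = res Y le_top z :=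
    fun i z => t.app_surjective (U i) (hUaff i) _
  choose lift hlift using hexv
  have hbasic : ∀ i j, Y'.basicOpen (lift i (h j)) = U i ⊓ U j := by
    intro i j
    refine SetLike.coe_injective (t.surjective.preimage_injective ?_)
    change ((t ⁻¹ᵁ Y'.basicOpen (lift i (h j)) : Y.Opens) : Set Y) = ((t ⁻¹ᵁ (U i ⊓ U j) : Y.Opens) : Set Y)
    rw [Scheme.preimage_basicOpen, hlift, Scheme.Hom.preimage_inf, hU j]
    exact congrArg _ ((Y.basicOpen_res (h j) (homOfLE le_top).op).trans rfl)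
  have hint : ∀ i j, IsAffineOpen (U i ⊓ U j) := fun i j => hbasic i j ▸ (hUaff i).basicOpen _
  -- two lifts act in the same way on kernels
  have hact : ∀ {W : Y'.Opens} (a b c : Γ(Y', W)), t.app W a = t.app W b → t.app W c = 0 → a * c = b * c :=
    fun a b c hab hc => by
      rw [← sub_eq_zero, ← sub_mul]
      exact hsq _ _ _ (by rw [map_sub, hab, sub_self]) hc
  have hl_res : ∀ (i : s) (z : Γ(Y, ⊤)) {W : Y'.Opens} (hW : W ≤ U i),
      t.app W (res Y' hW (lift i z)) = res Y le_top z := by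
    intro i z W hW
    rw [app_res, hlift, res_res]
  let G₀ : ∀ i, Γ(Y', U i) := fun i => lift i g
  let c : ∀ i j, Γ(Y', U i ⊓ U j) := fun i j => res Y' inf_le_left (G₀ i) - res Y' inf_le_right (G₀ j)
  have hc : ∀ i j, t.app _ (c i j) = 0 := fun i j => by
    simp only [c, G₀, map_sub, hl_res, sub_self]
  let V : ∀ i j, Γ(Y', U i ⊓ U j) := fun i j => res Y' inf_le_left (lift i (h j))
  have hext : ∀ i j, ∃ N : ℕ, ∀ n, N ≤ n → ∃ d : Γ(Y', U i), t.app _ d = 0 ∧
      res Y' inf_le_left d = V i j ^ n * c i j := by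
    intro i j
    suffices H : ∀ (W : Y'.Opens) (hW : W ≤ U i) (hWe : Y'.basicOpen (lift i (h j)) = W) (z : Γ(Y', W)),
        t.app W z = 0 → ∃ N : ℕ, ∀ n, N ≤ n → ∃ d : Γ(Y', U i), t.app _ d = 0 ∧
          res Y' hW d = res Y' hW (lift i (h j)) ^ n * z from
      H _ inf_le_left (hbasic i j) _ (hc i j)
    intro W hW hWe z hz
    subst hWe
    have := (hUaff i).isLocalization_basicOpen (lift i (h j))
    obtain ⟨n, w, hw⟩ := IsLocalization.Away.surj (lift i (h j)) z
    have hwz : res Y' hW w = res Y' hW (lift i (h j)) ^ n * z := by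
      rw [mul_comm]; exact hw.symm
    have hA : IsAffineOpen (t ⁻¹ᵁ U i) := (hUaff i).preimage t
    have h1 : res Y (Y.basicOpen_le (t.app _ (lift i (h j)))) (t.app _ w) = 0 := by
      rw [← res_res Y (t.preimage_mono hW) (Scheme.preimage_basicOpen t (lift i (h j))).ge, ← app_res t hW,
        hwz, map_mul, hz, mul_zero, map_zero]
    have := hA.isLocalization_basicOpen (t.app _ (lift i (h j)))
    obtain ⟨⟨_, m, rfl⟩, hm⟩ :=
      (IsLocalization.map_eq_zero_iff (.powers (t.app (U i) (lift i (h j)))) _ _).1 h1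
    refine ⟨m + n, fun k hk => ⟨lift i (h j) ^ (k - n) * w, ?_, ?_⟩⟩
    · rw [map_mul, map_pow, show k - n = (k - n - m) + m by omega, pow_add, mul_assoc, hm, mul_zero]
    · rw [map_mul, map_pow, hwz, ← mul_assoc, ← pow_add, Nat.sub_add_cancel (by omega)]
  choose N hN using hext
  let n := Finset.univ.sup fun p : s × s => N p.1 p.2
  choose d hd hdc using fun i j => hN i j n (Finset.le_sup (f := fun p : s × s => N p.1 p.2) (Finset.mem_univ (i, j)))
  have hcoc : ∀ i k j, ∃ M : ℕ, ∀ m, M ≤ m → V i k = V i k ∧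
      res Y' (inf_le_left : U i ⊓ U k ≤ U i) (lift i (h j)) ^ m *
        (res Y' inf_le_left (d i j) - res Y' inf_le_right (d k j) -
          res Y' (inf_le_left : U i ⊓ U k ≤ U i) (lift i (h j)) ^ n * c i k) = 0 := by
    intro i k j
    set v : Γ(Y', U i ⊓ U k) := res Y' (inf_le_left : U i ⊓ U k ≤ U i) (lift i (h j)) with hv
    set E : Γ(Y', U i ⊓ U k) := res Y' inf_le_left (d i j) - res Y' inf_le_right (d k j) - v ^ n * c i k
    suffices H : res Y' (Y'.basicOpen_le v) E = 0 by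
      have := (hint i k).isLocalization_basicOpen v
      obtain ⟨⟨_, M, rfl⟩, hM⟩ := (IsLocalization.map_eq_zero_iff (.powers v) _ E).1 H
      exact ⟨M, fun m hm => ⟨rfl, by rw [show m = (m - M) + M by omega, pow_add, mul_assoc, hM, mul_zero]⟩⟩
    have hle : Y'.basicOpen v = U i ⊓ U k ⊓ (U i ⊓ U j) :=
      (Y'.basicOpen_res (lift i (h j)) (homOfLE inf_le_left).op).trans (by rw [hbasic])
    have hij : Y'.basicOpen v ≤ U i ⊓ U j := hle.le.trans inf_le_right
    have hkj : Y'.basicOpen v ≤ U k ⊓ U j :=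
      le_inf ((Y'.basicOpen_le v).trans inf_le_right) (hij.trans inf_le_right)
    have e1 : res Y' (Y'.basicOpen_le v) (res Y' inf_le_left (d i j)) =
        res Y' (Y'.basicOpen_le v) v ^ n * res Y' hij (c i j) := by
      rw [res_res, ← res_res Y' inf_le_left hij, hdc, map_mul, map_pow]
      congr 2
      exact (res_res Y' _ hij _).trans (res_res Y' _ _ _).symm
    have e2 : res Y' (Y'.basicOpen_le v) (res Y' inf_le_right (d k j)) =
        res Y' (Y'.basicOpen_le v) v ^ n * res Y' hkj (c k j) := by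
      rw [res_res, ← res_res Y' inf_le_left hkj, hdc, map_mul, map_pow]
      refine hact _ _ _ ?_ (by rw [app_res, hc, map_zero])
      simp only [V, hv, map_pow, res_res, hl_res]
    have e3 : res Y' (Y'.basicOpen_le v) (c i k) = res Y' hij (c i j) - res Y' hkj (c k j) := by
      simp only [c, map_sub, res_res]
      ring
    simp only [E, map_sub, map_mul, map_pow, e1, e2, e3]
    ring
  choose M hM using hcoc
  let m := Finset.univ.sup fun p : s × s × s => M p.1 p.2.1 p.2.2
  obtain ⟨a, ha⟩ : ∃ a : s → Γ(Y, ⊤), ∑ j, a j * h j ^ (m + n) = 1 := by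
    have h1 := Ideal.span_pow_eq_top _ hspan (m + n)
    rw [← Set.range_comp] at h1
    exact (Ideal.mem_span_range_iff_exists_fun).1 (h1 ▸ (Submodule.mem_top (x := (1 : Γ(Y, ⊤)))))
  let G : ∀ i, Γ(Y', U i) := fun i => G₀ i - ∑ j, lift i (a j) * (lift i (h j) ^ m * d i j)
  have hGt : ∀ i, t.app _ (G i) = res Y le_top g := fun i => by
    simp only [G, G₀, map_sub, map_sum, map_mul, hd, mul_zero, Finset.sum_const_zero, sub_zero, hlift]
  have hglue : TopCat.Presheaf.IsCompatible Y'.presheaf U G := by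
    intro i k
    change res Y' inf_le_left (G i) = res Y' inf_le_right (G k)
    rw [← sub_eq_zero]
    have e : ∀ j, res Y' inf_le_left (lift i (a j) * (lift i (h j) ^ m * d i j)) -
        res Y' inf_le_right (lift k (a j) * (lift k (h j) ^ m * d k j)) =
        res Y' (inf_le_left : U i ⊓ U k ≤ U i) (lift i (a j)) *
          res Y' (inf_le_left : U i ⊓ U k ≤ U i) (lift i (h j)) ^ (m + n) * c i k := by
      intro j
      have hk : res Y' (inf_le_right : U i ⊓ U k ≤ U k) (lift k (a j) * (lift k (h j) ^ m * d k j)) =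
          res Y' (inf_le_left : U i ⊓ U k ≤ U i) (lift i (a j)) *
            res Y' (inf_le_left : U i ⊓ U k ≤ U i) (lift i (h j)) ^ m * res Y' inf_le_right (d k j) := by
        simp only [map_mul, map_pow, ← mul_assoc]
        refine hact _ _ _ ?_ (by rw [app_res, hd, map_zero])
        simp only [map_mul, map_pow, hl_res]
      have h2 := (hM i k j m (Finset.le_sup (f := fun p : s × s × s => M p.1 p.2.1 p.2.2)
        (Finset.mem_univ (i, k, j)))).2
      simp only [hk, map_mul, map_pow, pow_add]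
      linear_combination (res Y' (inf_le_left : U i ⊓ U k ≤ U i) (lift i (a j))) * h2
    have hone : (∑ j, res Y' (inf_le_left : U i ⊓ U k ≤ U i) (lift i (a j)) *
        res Y' (inf_le_left : U i ⊓ U k ≤ U i) (lift i (h j)) ^ (m + n)) * c i k = c i k := by
      conv_rhs => rw [← one_mul (c i k)]
      refine hact _ _ _ ?_ (hc i k)
      simp only [map_sum, map_mul, map_pow, hl_res, map_one]
      simp only [← map_pow, ← map_mul, ← map_sum, ha, map_one]
    simp only [G, map_sub, map_sum]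
    rw [sub_sub_sub_comm, ← Finset.sum_sub_distrib, Finset.sum_congr rfl fun j _ => e j, ← Finset.sum_mul, hone]
    exact sub_self _
  obtain ⟨F, hF, -⟩ := Y'.sheaf.existsUnique_gluing' U ⊤ (fun i => homOfLE le_top) hUtop.ge G hglue
  refine ⟨F, ?_⟩
  refine eq_of_res (fun i => t ⁻¹ᵁ U i) (fun _ => le_top) ?_ _ _ fun i => ?_
  · rw [← Scheme.Hom.preimage_iSup, hUtop]
    exact le_of_eq (Scheme.Hom.preimage_top t).symm
  · have := hF i
    change res Y' le_top F = G i at this
    rw [← hGt i, ← this, app_res]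
    rfl

end Groth.Agent.ThickAff3
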